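import Cfsg.Agent.Omega.NO3S.MFive.FailDef

/-!
# LightL (E), `n = 5`: relabelling of the frames of `MFive`

* `X_comp`, `V_comp`, `Zc_comp`, `Y_comp`, `N_comp`, `M_comp`, `W_comp` : `z ∘ σ`;
* `fr5_perm` : `Fr5 L T z` and `g ∈ L` inducing `σ` give `Fr5 L (T^g) (z ∘ σ)`.
-/

set_option autoImplicit false
set_option linter.unusedSectionVars false

namespace Cfsg.Agent.Omega.NO3S.LN

open Subgroup Cfsg Cfsg.Agent.ZN Cfsg.Agent.ZN.ChoiceBase
open Cfsg.Agent.ZN.ChoiceSit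
open Cfsg.Agent.Omega.NO3S.MFive
open Cfsg.Agent.Omega.EK3.Rank (NoOn)
open Cfsg.Agent.Omega.EK3.Lever (relIndex_cj)

universe u

variable {G : Type u} [Group G] {L T : Subgroup G} (z : Fin 5 → G) (σ : Equiv.Perm (Fin 5))

theorem X_comp (i j : Fin 5) : X (z ∘ σ) i j = X z (σ i) (σ j) := by
  have e : {g | ∃ k, k ≠ i ∧ k ≠ j ∧ g = (z ∘ σ) k} = {g | ∃ k, k ≠ σ i ∧ k ≠ σ j ∧ g = z k} := by
    ext g
    constructor
    · rintro ⟨k, h1, h2, rfl⟩
      exact ⟨σ k, fun e => h1 (σ.injective e), fun e => h2 (σ.injective e), rfl⟩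
    · rintro ⟨k, h1, h2, rfl⟩
      refine ⟨σ.symm k, ?_, ?_, ?_⟩
      · rintro rfl; exact h1 (σ.apply_symm_apply k).symm
      · rintro rfl; exact h2 (σ.apply_symm_apply k).symm
      · rw [Function.comp_apply, σ.apply_symm_apply]
  rw [X, X, e]

theorem range_comp : Set.range (z ∘ σ) = Set.range z := σ.surjective.range_comp z

theorem V_comp : V (z ∘ σ) = V z := by rw [V, V, range_comp]

theorem Zc_comp (a b : Fin 5) : Zc (z ∘ σ) a b = Zc z (σ a) (σ b) := by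
  have e : {g | ∃ c, c ≠ a ∧ c ≠ b ∧ g = (z ∘ σ) c} = {g | ∃ c, c ≠ σ a ∧ c ≠ σ b ∧ g = z c} := by
    ext g
    constructor
    · rintro ⟨k, h1, h2, rfl⟩
      exact ⟨σ k, fun e => h1 (σ.injective e), fun e => h2 (σ.injective e), rfl⟩
    · rintro ⟨k, h1, h2, rfl⟩
      refine ⟨σ.symm k, ?_, ?_, ?_⟩
      · rintro rfl; exact h1 (σ.apply_symm_apply k).symm
      · rintro rfl; exact h2 (σ.apply_symm_apply k).symm
      · rw [Function.comp_apply, σ.apply_symm_apply]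
  rw [Zc, Zc, e]

theorem Y_comp_le (L : Subgroup G) (a b : Fin 5) : Y L (z ∘ σ) a b ≤ Y L z (σ a) (σ b) := by
  refine sup_le le_sup_left (iSup_le fun k => iSup_le fun l => iSup_le ?_)
  rintro ⟨hkl, ⟨h1, h2⟩, h3, h4⟩
  rw [X_comp]
  exact X_le_Y (fun e => hkl (σ.injective e)) (fun e => h1 (σ.injective e)) (fun e => h2 (σ.injective e))
    (fun e => h3 (σ.injective e)) (fun e => h4 (σ.injective e))

theorem comp_symm : (z ∘ σ) ∘ σ.symm = z := by
  ext a
  rw [Function.comp_apply, Function.comp_apply, σ.apply_symm_apply]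

theorem Y_comp (L : Subgroup G) (a b : Fin 5) : Y L (z ∘ σ) a b = Y L z (σ a) (σ b) := by
  refine le_antisymm (Y_comp_le z σ L a b) ?_
  have h1 := Y_comp_le (z ∘ σ) σ.symm L (σ a) (σ b)
  rwa [comp_symm, σ.symm_apply_apply, σ.symm_apply_apply] at h1

theorem N_comp (L : Subgroup G) (a b : Fin 5) : N L (z ∘ σ) a b = N L z (σ a) (σ b) := by
  rw [N, N, Y_comp, Zc_comp]

theorem M_comp_le (L : Subgroup G) (a : Fin 5) : M L (z ∘ σ) a ≤ M L z (σ a) := by
  refine sup_le le_sup_left (iSup_le fun k => iSup_le fun l => iSup_le ?_)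
  rintro ⟨hkl, h1, h3⟩
  rw [X_comp]
  exact X_le_Mij (fun e => hkl (σ.injective e)) (fun e => h1 (σ.injective e)) (fun e => h3 (σ.injective e))

theorem M_comp (L : Subgroup G) (a : Fin 5) : M L (z ∘ σ) a = M L z (σ a) := by
  refine le_antisymm (M_comp_le z σ L a) ?_
  have h1 := M_comp_le (z ∘ σ) σ.symm L (σ a)
  rwa [comp_symm, σ.symm_apply_apply] at h1

theorem W_comp (L : Subgroup G) (a : Fin 5) : W L (z ∘ σ) a = W L z (σ a) := by
  rw [W, W, M_comp, V_comp]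

theorem CC_comp (a b : Fin 5) : CC (z ∘ σ) a b = CC z (σ a) (σ b) := rfl

theorem NB_comp (a b c d : Fin 5) : NB (z ∘ σ) a b c d = NB z (σ a) (σ b) (σ c) (σ d) := rfl

variable {z σ} [Finite G]

theorem syl_cj {T X : Subgroup G} (g : G) (h : Syl T X) : Syl (cj g T) (cj g X) := by
  refine ⟨cj_mono g h.1, isPGroup_cj g h.2.1, fun R hR hR2 hTR => ?_⟩
  have h1 := h.2.2 (cj g⁻¹ R) (by have := cj_mono g⁻¹ hR; rwa [cj_inv_cj] at this) (isPGroup_cj g⁻¹ hR2)
    (by have := cj_mono g⁻¹ hTR; rwa [cj_inv_cj] at this)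
  rw [← h1, cj_cj_inv]

theorem noOn_cj {O N : Subgroup G} (g : G) (h : NoOn O N) : NoOn (cj g O) (cj g N) := by
  intro A hA hAO
  have h1 := h (cj g⁻¹ A) (isElementaryAbelian_cj g⁻¹ hA) (by
    have := cj_mono g⁻¹ hAO
    rwa [cj_inv_cj] at this)
  have h2 := relIndex_cj g (centralizer (N : Set G)) (cj g⁻¹ A)
  have h3 := relIndex_cj g (centralizer ((cj g⁻¹ A : Subgroup G) : Set G)) N
  rw [cj_centralizer, cj_cj_inv] at h2
  rw [cj_centralizer, cj_cj_inv] at h3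
  rw [h2, h3]
  exact h1

/-- **Relabelling of `Fr5`.** -/
theorem fr5_perm (h : Fr5 L T z) {g : G} (hg : Ind L z g σ) : Fr5 L (cj g T) (z ∘ σ) where
  sq a := h.sq _
  comm a b := h.comm _ _
  prod := by
    have h1 := congrArg (fun x => g * x * g⁻¹) h.prod
    have e : g * (z 1 * z 2 * z 3 * z 4) * g⁻¹ = (g * z 1 * g⁻¹) * (g * z 2 * g⁻¹) * (g * z 3 * g⁻¹) * (g * z 4 * g⁻¹) := by
      group
    simp only [e, hg.eq] at h1
    exact h1
  inj := h.inj.comp σ.injective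
  act g' hg' := by
    obtain ⟨τ, hτ⟩ := h.act g' hg'
    refine ⟨σ.trans (τ.trans σ.symm), fun a => ?_⟩
    rw [Function.comp_apply, Function.comp_apply, hτ]
    congr 1
    simp
  full τ := by
    obtain ⟨g', hg', h1⟩ := h.full (σ.symm.trans (τ.trans σ))
    refine ⟨g', hg', fun a => ?_⟩
    rw [Function.comp_apply, Function.comp_apply, h1]
    congr 1
    simp
  cv := by rw [range_comp]; exact h.cv
  TL := by
    rintro _ ⟨t, ht, rfl⟩
    exact mul_mem (mul_mem hg.mem (h.TL ht)) (inv_mem hg.mem)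
  TX := by
    rw [X_comp, ← hg.X_eq]
    exact cj_mono g h.TX
  syl := by
    rw [Y_comp, ← hg.Y_eq]
    exact syl_cj g h.syl
  wab := by
    rw [W_comp, ← hg.W_eq]
    exact isElementaryAbelian_cj g h.wab
  cw := by
    rw [W_comp, ← hg.W_eq, X_comp, ← hg.X_eq]
    have h1 := cj_mono g h.cw
    rw [cj_inf, cj_centralizer, cj_centralizer] at h1
    exact h1
  no := by
    rw [X_comp, N_comp, ← hg.X_eq, ← hg.N_eq, o2_cj]
    exact noOn_cj g h.no

end Cfsg.Agent.Omega.NO3S.LN
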