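import Cfsg.Agent.Omega.ESym.Light
import Cfsg.Agent.Omega.Node.LightOf
import Cfsg.Agent.Omega.NO3S.MFive.WabF

/-!
# LightL (E), `n = 5`: the frame at every stage of `HypL`

* `exists_uni` : UNI+ for the blocks (`UniI`) at every stage;
* `nB` : `N_G(B) ≤ N_G(V)`; `zcQ` : `Ω₁Z(O₂(P)) = V`.
-/

set_option autoImplicit false
set_option linter.unusedSectionVars false

namespace Cfsg.Agent.Omega.NO3S.LN

open Subgroup Cfsg Cfsg.Agent.ZN.ChoiceBase Cfsg.Agent.ZN.ChoiceSit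
open Cfsg.Agent.ZN (jj zj bau zc zl o2)
open Cfsg.Agent.Omega.FFThm (SymKM)
open Cfsg.Agent.Omega.FrameFF (cv)
open Cfsg.Agent.Omega.NO3S (HypL HypN HypJ Hyp PSS)
open Cfsg.Agent.Omega.Node.MultiOf Cfsg.Agent.Omega.Node.SymOf
open Cfsg.Agent.Omega.NO3S.ESym (UniI)
open Cfsg.Agent.Omega.NO3S.EThree.Frame (Fg)
open Cfsg.Agent.Omega.ESym.Light
open scoped Pointwise

universe u

variable {G : Type u} [Group G] [Finite G] {S : Sylow 2 G} {P K' B ZJ : Subgroup G} {ι : Type}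
  {L W Z C : ι → Subgroup G} {k m : ℕ}

/-- **UNI+ for the FF-blocks over `B`, every stage.** -/
theorem exists_uni (hM : MulS S P K' B ZJ L W Z C k m) (hk : 0 < k) (hm : 2 ≤ m) :
    ∃ (ι' : Type) (L' W' Z' C' : ι' → Subgroup G), MulS S P K' B ZJ L' W' Z' C' k m ∧ UniI B ZJ L' W' := by
  obtain ⟨N⟩ := hM.sym
  obtain ⟨F⟩ := exists_light hM.hyp.toHypN hM.stg hk hm N
  have h6 : 2 ^ 2 ≤ 2 ^ m := Nat.pow_le_pow_right (by norm_num) hm
  refine ⟨F.ι, F.L, _, _, _, ⟨hM.hyp, hM.stg, ⟨N⟩, OM.Lev.Main.toFg F.frl, F.fi, fun i => ?_⟩, F.uni⟩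
  obtain ⟨j, hj, -⟩ := exists_bro F.sy F.ch (by omega) i
  exact ⟨j, hj⟩

/-- the blocks over `B` have the modules `W i`: `N_G(B)` permutes them -/
theorem cj_W (hM : MulS S P K' B ZJ L W Z C k m) (uni : UniI B ZJ L W) {g : G} (hg : g ∈ normalizer (B : Set G))
    (i : ι) : ∃ j, cj g (W i) = W j := by
  obtain ⟨j, hj, -⟩ := uni _ _ ((hM.fbl i).conj hg)
  exact ⟨j, hj⟩

theorem V_eq (hM : MulS S P K' B ZJ L W Z C k m) : zl (S : Subgroup G) P = ⨆ i, W i := by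
  have := hM.fin
  exact le_antisymm (Fg_V_le hM.fr) (iSup_le hM.fr.WV)

/-- **`N_G(B) ≤ N_G(V)`** -/
theorem nB (hM : MulS S P K' B ZJ L W Z C k m) (uni : UniI B ZJ L W) :
    normalizer (B : Set G) ≤ normalizer (zl (S : Subgroup G) P : Set G) := by
  intro g hg
  refine mem_normalizer_of_cj_le ?_
  rw [V_eq hM]
  change Subgroup.map _ _ ≤ _
  rw [Subgroup.map_iSup]
  refine iSup_le fun i => ?_
  obtain ⟨j, hj⟩ := cj_W hM uni hg i
  exact (le_of_eq hj).trans (le_iSup W j)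

/-- **`Ω₁Z(O₂(P)) = V`** -/
theorem zcQ (hM : MulS S P K' B ZJ L W Z C k m) : zc (o2 P) = zl (S : Subgroup G) P := by
  apply le_antisymm
  · intro x hx
    obtain ⟨h1, h2, h3⟩ := mem_zc.1 hx
    exact hM.fr.zcQ x h1 h2 fun y hy => (h3 y hy).symm
  · intro x hx
    exact mem_zc.2 ⟨hM.fr.VQ hx, hM.fr.Vsq hx, fun y hy => hM.fr.cQ hy hx⟩

end Cfsg.Agent.Omega.NO3S.LN
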